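import Groth.Agent.Props58.Ext.Local
import Groth.Prelude.Def_FlatMod2
import Mathlib.CategoryTheory.Idempotents.Basic
import Mathlib.RingTheory.Finiteness.Projective

/-! Summands of finite free modules on a scheme and finite projective modules over global sections. -/

set_option autoImplicit false
set_option backward.isDefEq.respectTransparency.types false

noncomputable section

universe u

open CategoryTheory Limits AlgebraicGeometry Opposite
open Groth.Agent.QC70 Groth.Agent.Props58.LocFree Groth.Agent.Props58.Ext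

namespace Groth.Agent.SummFree31

variable {X : Scheme.{u}} {M N : X.Modules}

/-- Global sections of a morphism, as a linear map. -/
def gamMap (f : M ⟶ N) : Γ(M, ⊤) →ₗ[Γ(X, ⊤)] Γ(N, ⊤) where
  toFun x := f.app ⊤ x
  map_add' x y := map_add (f.app ⊤).hom x y
  map_smul' r x := Scheme.Modules.Hom.app_smul f r x

theorem gamMap_apply (f : M ⟶ N) (x : Γ(M, ⊤)) : gamMap f x = f.app ⊤ x := rfl

theorem res_top {P : X.Modules} (x : Γ(P, ⊤)) : res P (le_top : (⊤ : X.Opens) ≤ ⊤) x = x := res_self x

theorem exists_coord {n : ℕ} (z : Γ(FlatMod.freeMod X n, ⊤)) :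
    ∃ a : Fin n → Γ(X, ⊤), ∑ i, a i • unitVec X n i = z := by
  obtain ⟨a, ha⟩ := free_exists_comb z
  exact ⟨a, by simpa only [res_top] using ha⟩

/-- The free module of global sections of the free sheaf. -/
def freeEquiv (n : ℕ) : (Fin n → Γ(X, ⊤)) ≃ₗ[Γ(X, ⊤)] Γ(FlatMod.freeMod X n, ⊤) :=
  LinearEquiv.ofBijective (Fintype.linearCombination Γ(X, ⊤) (unitVec X n))
    ⟨fun a b h => by
      simp only [Fintype.linearCombination_apply] at h
      exact free_eq_of_comb (W := ⊤) (by simpa only [res_top] using h),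
    fun z => by
      obtain ⟨a, ha⟩ := exists_coord z
      exact ⟨a, by rw [Fintype.linearCombination_apply]; exact ha⟩⟩

theorem freeEquiv_single (n : ℕ) (j : Fin n) : freeEquiv (X := X) n (Pi.single j 1) = unitVec X n j := by
  classical
  simp [freeEquiv, Fintype.linearCombination_apply, Pi.single_apply]

theorem freeDesc_unitVec {n : ℕ} (s : Fin n → Γ(M, ⊤)) (j : Fin n) :
    (freeDesc s).app ⊤ (unitVec X n j) = s j := by
  classical
  have h := freeDesc_comb s (W := ⊤) (Pi.single j 1)
  simp only [res_top] at h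
  simpa [Pi.single_apply] using h

theorem freeHom_ext {n : ℕ} {φ ψ : FlatMod.freeMod X n ⟶ M}
    (h : ∀ i, φ.app ⊤ (unitVec X n i) = ψ.app ⊤ (unitVec X n i)) : φ = ψ := by
  refine Scheme.Modules.hom_ext _ _ fun W => ?_
  ext z
  obtain ⟨a, rfl⟩ := free_exists_comb z
  rw [map_sum, map_sum]
  refine Finset.sum_congr rfl fun i _ => ?_
  rw [Scheme.Modules.Hom.app_smul, Scheme.Modules.Hom.app_smul, app_res, app_res, h i]

/-- Global sections of the retracts of finite free modules. -/
def gam : ObjectProperty.FullSubcategory (fun M : X.Modules =>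
      ∃ (n : ℕ) (i : M ⟶ FlatMod.freeMod X n) (r : FlatMod.freeMod X n ⟶ M), i ≫ r = 𝟙 M) ⥤
    ObjectProperty.FullSubcategory (fun N : ModuleCat.{u} (Γ(X, ⊤)) =>
      Module.Finite (Γ(X, ⊤)) N ∧ Module.Projective (Γ(X, ⊤)) N) where
  obj M := ⟨ModuleCat.of Γ(X, ⊤) Γ(M.obj, ⊤), by
    obtain ⟨n, i, r, hir⟩ := M.property
    have hid : (gamMap r).comp (gamMap i) = LinearMap.id := LinearMap.ext fun x => by
      show (i ≫ r).app ⊤ x = x
      rw [hir]; rfl
    haveI : Module.Finite Γ(X, ⊤) Γ(FlatMod.freeMod X n, ⊤) := Module.Finite.equiv (freeEquiv n)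
    haveI : Module.Projective Γ(X, ⊤) Γ(FlatMod.freeMod X n, ⊤) :=
      Module.Projective.of_equiv (freeEquiv n)
    exact ⟨Module.Finite.of_surjective (gamMap r) fun x => ⟨gamMap i x, LinearMap.congr_fun hid x⟩,
      Module.Projective.of_split (gamMap i) (gamMap r) hid⟩⟩
  map f := ObjectProperty.homMk (ModuleCat.ofHom (gamMap f.hom))
  map_id M := by
    ext x
    rfl
  map_comp f g := by
    ext x
    rfl

instance : (gam (X := X)).Faithful where
  map_injective {M N f g} h := by
    obtain ⟨n, i, r, hir⟩ := M.property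
    have h' : ∀ x, f.hom.app ⊤ x = g.hom.app ⊤ x := fun x =>
      (LinearMap.congr_fun (congrArg ModuleCat.Hom.hom (congrArg (fun t => t.hom) h)) x :
        gamMap f.hom x = gamMap g.hom x)
    refine ObjectProperty.hom_ext _ ?_
    have hr : r ≫ f.hom = r ≫ g.hom := freeHom_ext fun j => h' _
    have := congrArg (fun t => i ≫ t) hr
    simpa only [← Category.assoc, hir, Category.id_comp] using this

instance : (gam (X := X)).Full where
  map_surjective {M N} h := by
    obtain ⟨n, i, r, hir⟩ := M.property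
    let g : Γ(M.obj, ⊤) →ₗ[Γ(X, ⊤)] Γ(N.obj, ⊤) := h.hom.hom
    let D := freeDesc (fun j => g (gamMap r (unitVec X n j)))
    have hD : (gamMap D) = g.comp (gamMap r) := by
      refine LinearMap.ext fun z => ?_
      obtain ⟨a, rfl⟩ := exists_coord z
      simp only [map_sum, map_smul, LinearMap.comp_apply, gamMap_apply, D, freeDesc_unitVec]
    refine ⟨ObjectProperty.homMk (i ≫ D), ?_⟩
    ext x
    show D.app ⊤ (i.app ⊤ x) = g x
    rw [show D.app ⊤ (i.app ⊤ x) = gamMap D (i.app ⊤ x) from rfl, hD]
    show g ((i ≫ r).app ⊤ x) = g x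
    rw [hir]
    rfl

instance : (gam (X := X)).EssSurj where
  mem_essImage N := by
    haveI := N.property.1
    haveI := N.property.2
    obtain ⟨n, p, s, -, -, hps⟩ := Module.Finite.exists_comp_eq_id_of_projective Γ(X, ⊤) N.obj
    let co := freeEquiv (X := X) n
    let eL : Γ(FlatMod.freeMod X n, ⊤) →ₗ[Γ(X, ⊤)] Γ(FlatMod.freeMod X n, ⊤) :=
      co.toLinearMap.comp (s.comp (p.comp co.symm.toLinearMap))
    let E := freeDesc (fun j => eL (unitVec X n j))
    have hE : gamMap E = eL := by
      refine LinearMap.ext fun z => ?_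
      obtain ⟨a, rfl⟩ := exists_coord z
      simp only [map_sum, map_smul, gamMap_apply, E, freeDesc_unitVec]
    have hps' : ∀ x, p (s x) = x := fun x => LinearMap.congr_fun hps x
    have hEE : E ≫ E = E := freeHom_ext fun j => by
      show gamMap E (gamMap E (unitVec X n j)) = gamMap E (unitVec X n j)
      rw [hE]
      simp [eL, hps']
    obtain ⟨Y, i, e, hie, hei⟩ := IsIdempotentComplete.idempotents_split _ E hEE
    refine ⟨⟨Y, n, i, e, hie⟩, ⟨ObjectProperty.isoMk _ (LinearEquiv.toModuleIso
      (LinearEquiv.ofLinear (p.comp (co.symm.toLinearMap.comp (gamMap i)))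
        ((gamMap e).comp (co.toLinearMap.comp s)) ?_ ?_))⟩⟩
    · refine LinearMap.ext fun x => ?_
      have h1 : gamMap i (gamMap e (co (s x))) = eL (co (s x)) := by
        rw [← hE]
        show (e ≫ i).app ⊤ _ = _
        rw [hei]; rfl
      show p (co.symm (gamMap i (gamMap e (co (s x))))) = x
      rw [h1]
      simp [eL, hps']
    · refine LinearMap.ext fun y => ?_
      have h1 : co (s (p (co.symm (gamMap i y)))) = gamMap E (gamMap i y) := by rw [hE]; rfl
      show gamMap e (co (s (p (co.symm (gamMap i y))))) = y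
      rw [h1]
      have h2 : i ≫ E ≫ e = 𝟙 Y := by rw [← hei, Category.assoc, hie, Category.comp_id, hie]
      show (i ≫ E ≫ e).app ⊤ y = y
      rw [h2]; rfl

instance : (gam (X := X)).IsEquivalence where

end Groth.Agent.SummFree31
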